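import Cfsg.Agent.Chev.GradingAll
import Cfsg.Agent.Chev.RadicalCentralizer

/-!
Kernel checks on the table of `E₈`: the grading by the coefficient at the branch node.
-/

set_option autoImplicit false

namespace Cfsg.Agent.IterCores

open Cfsg.Lie Cfsg.Agent.Chev

/-- Commutators of positive roots do not lower the coefficient at node `3`. -/
noncomputable def chkMono (D : ChevalleyDatum) (C : Cert) : Bool :=
  allBelow (fun r => allBelow (fun s =>
    cond (Nat.ble (half D) r && Nat.ble (half D) s && !Nat.beq s r)
      ((C.cTerms D r s).all fun c => decide (C.cR s 3 ≤ C.cR c.1 3)) true) D.nroots) D.nroots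

/-- The reflection at node `3` lowers the coefficient at node `3` by at most one in degree `≥ 2`. -/
noncomputable def chkStep (D : ChevalleyDatum) (C : Cert) : Bool :=
  allBelow (fun r =>
    cond (Nat.ble (half D) r && decide (2 ≤ C.cR r 3))
      (decide (C.cR r 3 ≤ C.cR (C.cW 3 r) 3 + 1)) true) D.nroots

/-- `k` can be raised to `m` by the fundamental root `a`, respecting the order of indices. -/
noncomputable def leadOK (D : ChevalleyDatum) (C : Cert) (k a : ℕ) : Bool :=
  !Nat.beq a k &&
  match C.cTerms D k a with
  | [(m, c, i, j)] => decide (c % 2 ≠ 0) && Nat.beq i 1 && Nat.beq j 1 && Nat.blt k m &&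
      allBelow (fun s => cond (Nat.blt k s && !Nat.beq s a)
        ((C.cTerms D s a).all fun d => Nat.blt m d.1) true) D.nroots
  | _ => false

/-- Every positive root but the last one can be raised. -/
noncomputable def chkLead (D : ChevalleyDatum) (C : Cert) : Bool :=
  allBelow (fun k => cond (Nat.ble (half D) k)
    (Nat.beq (k + 1) D.nroots || (List.range D.rank).any fun j => leadOK D C k (D.simple j)) true)
    D.nroots

theorem e8_mono : chkMono chevE8 e8Cert = true := by decide +kernel

theorem e8_step : chkStep chevE8 e8Cert = true := by decide +kernel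

theorem e8_lead : chkLead chevE8 e8Cert = true := by decide +kernel

theorem e8_linked : chkLinked chevE8 e8Cert = true := by decide +kernel

/-- The word from the highest root to the negative of the root of node `3`. -/
def path : List ℕ :=
  [7, 6, 5, 4, 3, 1, 2, 0, 3, 2, 4, 3, 1, 5, 4, 3, 2, 0, 6, 5, 4, 3, 1, 2, 7, 6, 5, 4, 3]

theorem path_end :
    path.foldl (fun r i => chevE8.reflectRoot i r) 239 = chevE8.neg (chevE8.simple 3) := by
  decide +kernel

theorem path_count : path.countP (fun i => decide (i = 3)) = 6 := by decide +kernel

theorem path_lt : ∀ i ∈ path, i < 8 := by decide +kernel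

theorem top_coef : Chev.coef chevE8 239 3 = 6 := by decide +kernel

end Cfsg.Agent.IterCores
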