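import Cfsg.Agent.IterCores.Seq
import Cfsg.Agent.IterCores.Checks
import Cfsg.Agent.Chev.SimpleAll

/-!
The parabolic subgroup of `E₈(2)` of the branch node and a conjugate of it.
-/

set_option autoImplicit false
set_option maxRecDepth 100000

namespace Cfsg.Agent.IterCores

open Cfsg.Lie Cfsg.Agent.Chev
open scoped MatrixGroups

universe u

/-- The nodes other than the branch node. -/
abbrev J3 : Set ℕ := {i | i ≠ 3}

/-- A datum with the checked grading at node `3`, over a field with two elements. -/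
structure Setting (D : ChevalleyDatum) (C : Cert) (F : Type u) [Field F] : Prop where
  facts : Facts.{u} D
  checks : Checks D C
  two : ∀ t : F, t = 0 ∨ t = 1
  node : 3 < D.rank
  mono : chkMono D C = true
  step : chkStep D C = true
  lead : chkLead D C = true
  linked : chkLinked D C = true

/-- A map preserving the generators of a closure preserves it. -/
theorem mem_normalizer_of_conj {G : Type*} [Group G] {H : Subgroup G} {S : Set G}
    (hH : H = Subgroup.closure S) {g : G} (h : ∀ x ∈ S, g * x * g⁻¹ ∈ H) :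
    ∀ x ∈ H, g * x * g⁻¹ ∈ H := by
  have hle : H ≤ H.comap (MulAut.conj g).toMonoidHom := by
    conv_lhs => rw [hH]
    exact (Subgroup.closure_le _).2 h
  exact fun x hx => hle hx

/-- The parabolic subgroup of the branch node. -/
noncomputable abbrev PP (D : ChevalleyDatum) (F : Type u) [Field F] : Subgroup (GL D.Idx F) :=
  D.parabolicSubgroup F J3

variable {D : ChevalleyDatum} {C : Cert} {F : Type u} [Field F] (S : Setting D C F)
include S

theorem neg_one_eq : (-1 : F) = 1 :=
  (S.two (-1)).resolve_left (neg_ne_zero.2 one_ne_zero)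

theorem unit_eq_one (u : Fˣ) : u = 1 :=
  Units.ext ((S.two (u : F)).resolve_left (Units.ne_zero u))

theorem torus_eq_one (c : Fin D.rank → Fˣ) : (torusHom c : GL D.Idx F) = 1 := by
  rw [show c = 1 from funext fun i => unit_eq_one S _, map_one]

theorem diagonal_eq_bot : D.diagonalSubgroup F = ⊥ := by
  rw [eq_bot_iff]
  intro g hg
  obtain ⟨c, rfl⟩ := (mem_diagonal_iff S.facts).1 hg
  exact (torus_eq_one S c).symm ▸ one_mem _

theorem cast_unit {x : ℤ} (h : x = 1 ∨ x = -1) : (x : F) = 1 := by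
  rcases h with rfl | rfl
  · exact Int.cast_one
  · rw [Int.cast_neg, Int.cast_one, neg_one_eq S]

/-- Conjugation by the representative of a fundamental reflection. -/
theorem nS_conj {i r : ℕ} (hi : i < D.rank) (hr : r < D.nroots) (t : F) :
    nS S.facts i * xG S.facts r t * (nS S.facts i : GL D.Idx F)⁻¹ =
      xG S.facts (D.reflectRoot i r) t := by
  rw [nS_conj_x S.facts hi hr, mul_inv_cancel_right, cast_unit S ((etaN_spec S.facts hi).1 r hr), one_mul]

theorem nS_sq {i : ℕ} (hi : i < D.rank) :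
    (nS S.facts i * nS S.facts i : GL D.Idx F) = 1 := by
  have := nS_mul_self S.facts hi (F := F)
  rwa [diagonal_eq_bot S, Subgroup.mem_bot] at this

/-- The reflection at the branch node. -/
abbrev ss : GL D.Idx F := nS S.facts 3

theorem ss_sq : (ss S) * (ss S) = 1 := nS_sq S S.node

theorem ss_inv : (ss S)⁻¹ = (ss S) := inv_eq_of_mul_eq_one_right (ss_sq S)

theorem borel_eq : D.borelSubgroup F = D.posUnipotent F := by
  rw [ChevalleyDatum.borelSubgroup, diagonal_eq_bot S, sup_bot_eq]

theorem posU_le : D.posUnipotent F ≤ (PP D F) :=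
  (borel_eq S).symm.le.trans (borel_le_parabolic _)

theorem PP_le_group : (PP D F) ≤ D.group F := by
  refine sup_le (borel_le_group S.facts) ((Subgroup.closure_le _).2 ?_)
  rintro g ⟨j, -, -, e⟩
  rw [show g = nG S.facts (D.simple j) 1 from Units.ext (e.trans (nG_val S.facts _ 1).symm)]
  exact nG_mem_group S.facts _ _

/-- The generators in degree at least `k`. -/
def lvSet (k : ℕ) : Set (GL D.Idx F) :=
  {g | ∃ (r : ℕ) (t : F), r < D.nroots ∧ half D ≤ r ∧ (k : ℤ) ≤ coef D r 3 ∧
    g = xG S.facts r t}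

/-- The filtration of the unipotent radical. -/
def lv (k : ℕ) : Subgroup (GL D.Idx F) := Subgroup.closure (lvSet S k)

theorem lv_le_posU (k : ℕ) : lv S k ≤ D.posUnipotent F := by
  refine (Subgroup.closure_le _).2 ?_
  rintro g ⟨r, t, hr, hp, -, rfl⟩
  exact mem_posUnipotent_of S.facts hr hp t

theorem lv_mono (k : ℕ) : lv S (k + 1) ≤ lv S k := by
  refine Subgroup.closure_mono ?_
  rintro g ⟨r, t, hr, hp, hk, e⟩
  exact ⟨r, t, hr, hp, by omega, e⟩

theorem mem_lv {k r : ℕ} (hr : r < D.nroots) (hp : half D ≤ r)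
    (hk : (k : ℤ) ≤ coef D r 3) (t : F) : xG S.facts r t ∈ lv S k :=
  Subgroup.subset_closure ⟨r, t, hr, hp, hk, rfl⟩

theorem mono_spec {r s : ℕ} (hr : r < D.nroots) (hs : s < D.nroots)
    (hpr : half D ≤ r) (hps : half D ≤ s) (hne : s ≠ r)
    {c : ℕ × ℤ × ℕ × ℕ} (hc : c ∈ D.commTerms r s) :
    coef D s 3 ≤ coef D c.1 3 := by
  have h := S.mono
  simp only [chkMono, allBelow_iff] at h
  have h' := h r hr s hs
  rw [nble_iff.2 hpr, nble_iff.2 hps, nbeq_false_iff.2 hne] at h'
  simp only [Bool.not_false, Bool.and_self, cond_true, List.all_eq_true, decide_eq_true_eq] at h'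
  have hlt := S.facts.comm_lt r s hr hs c hc
  rw [commTerms_eq S.checks] at hc
  rw [coef_eq S.checks S.node hs, coef_eq S.checks S.node hlt]
  exact h' c hc

theorem step_spec {r : ℕ} (hr : r < D.nroots) (hp : half D ≤ r)
    (h2 : 2 ≤ coef D r 3) :
    coef D r 3 ≤ coef D (D.reflectRoot 3 r) 3 + 1 := by
  have h := S.step
  simp only [chkStep, allBelow_iff] at h
  have h' := h r hr
  have e3 := refl_split S.checks (i := 3) S.node hr
  rw [coef_eq S.checks S.node hr] at h2 ⊢
  rw [e3.1, coef_eq S.checks S.node e3.2.1]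
  simp only [nble_iff.2 hp, h2, decide_true, Bool.and_self, cond_true, decide_eq_true_eq] at h'
  exact h'

theorem xG_conj_lv (k : ℕ) {r : ℕ} (hr : r < D.nroots) (hp : half D ≤ r) (t : F) :
    ∀ x ∈ lv S k, xG S.facts r t * x * (xG S.facts r t)⁻¹ ∈ lv S k := by
  refine mem_normalizer_of_conj rfl ?_
  rintro x ⟨s, v, hs, hps, hk, rfl⟩
  rw [xG_inv]
  by_cases hsr : s = r
  · subst hsr
    rw [xG_mul, xG_mul, show t + v + -t = v by ring]
    exact mem_lv S hs hps hk v
  have hne : s ≠ D.neg r := by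
    have := (neg_lt_half_iff S.facts hr).2 hp; omega
  rw [mul_assoc, xG_comm S.facts hr hs hsr hne (-t) v, ← mul_assoc, ← mul_assoc, xG_mul,
    add_neg_cancel, xG_zero, one_mul]
  refine mul_mem (mem_lv S hs hps hk v) (Chev.wordG_mem S.facts fun p hpw => ?_)
  obtain ⟨c, hc, rfl⟩ := List.mem_map.1 hpw
  exact mem_lv S (S.facts.comm_lt r s hr hs c hc)
    (by have := (S.facts.comm_pos r s hr hs hp hps c hc).1; omega)
    (hk.trans (mono_spec S hr hs hp hps hsr hc)) _

theorem nS_conj_lv {k : ℕ} (hk1 : 1 ≤ k) {j : ℕ} (hj : j < D.rank) (hj3 : j ≠ 3) :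
    ∀ x ∈ lv S k, nS S.facts j * x * (nS S.facts j : GL D.Idx F)⁻¹ ∈ lv S k := by
  refine mem_normalizer_of_conj rfl ?_
  rintro x ⟨s, v, hs, hps, hk, rfl⟩
  rw [nS_conj S hj hs]
  by_cases h : s = D.simple j
  · subst h
    rw [S.facts.coef_simple j hj 3 S.node, if_neg (Ne.symm hj3)] at hk
    omega
  exact mem_lv S (S.facts.refl_lt j hj s hs) (S.facts.refl_pos j hj s hs hps h)
    (by rw [S.facts.coef_refl j hj s hs 3 S.node, if_neg (Ne.symm hj3), sub_zero]; exact hk) v

theorem PP_lv {k : ℕ} (hk : 1 ≤ k) : ∀ p ∈ (PP D F), ∀ x ∈ lv S k, p * x * p⁻¹ ∈ lv S k := by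
  let T : Subgroup (GL D.Idx F) :=
    { carrier := {p | (∀ x ∈ lv S k, p * x * p⁻¹ ∈ lv S k) ∧ ∀ x ∈ lv S k, p⁻¹ * x * p ∈ lv S k}
      one_mem' := ⟨fun x hx => by simpa using hx, fun x hx => by simpa using hx⟩
      mul_mem' := fun {p q} hp hq => ⟨fun x hx => by
          have := hp.1 _ (hq.1 x hx)
          rwa [show p * q * x * (p * q)⁻¹ = p * (q * x * q⁻¹) * p⁻¹ by group],
        fun x hx => by
          have := hq.2 _ (hp.2 x hx)
          rwa [show (p * q)⁻¹ * x * (p * q) = q⁻¹ * (p⁻¹ * x * p) * q by group]⟩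
      inv_mem' := fun {p} hp => ⟨fun x hx => by rw [inv_inv]; exact hp.2 x hx,
        fun x hx => by rw [inv_inv]; exact hp.1 x hx⟩ }
  suffices h : (PP D F) ≤ T from fun p hp => (h hp).1
  refine sup_le ((borel_eq S).le.trans ?_) ((Subgroup.closure_le _).2 ?_)
  · rw [posUnipotent_eq S.facts, Subgroup.closure_le]
    rintro g ⟨r, t, hp, hr, rfl⟩
    refine ⟨xG_conj_lv S k hr hp t, fun x hx => ?_⟩
    have := xG_conj_lv S k hr hp (-t) x hx
    rwa [← xG_inv, inv_inv] at this
  · rintro g ⟨j, hj3, hj, e⟩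
    rw [show g = nS S.facts j from Units.ext (e.trans (nG_val S.facts _ 1).symm)]
    refine ⟨nS_conj_lv S hk hj hj3, fun x hx => ?_⟩
    rw [inv_eq_of_mul_eq_one_right (nS_sq S hj)]
    have := nS_conj_lv S hk hj hj3 x hx
    rwa [inv_eq_of_mul_eq_one_right (nS_sq S hj)] at this

theorem lv_step {k : ℕ} (hk : 1 ≤ k) : ∀ x ∈ lv S (k + 1), (ss S) * x * (ss S) ∈ lv S k := by
  have h : lv S (k + 1) ≤ (lv S k).comap (MulAut.conj (ss S)).toMonoidHom := by
    refine (Subgroup.closure_le _).2 ?_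
    rintro x ⟨r, t, hr, hp, hc, rfl⟩
    show (ss S) * xG S.facts r t * (ss S)⁻¹ ∈ lv S k
    rw [nS_conj S S.node hr]
    have hne : r ≠ D.simple 3 := by
      rintro rfl
      rw [S.facts.coef_simple 3 S.node 3 S.node, if_pos rfl] at hc
      omega
    refine mem_lv S (S.facts.refl_lt 3 S.node r hr) (S.facts.refl_pos 3 S.node r hr hp hne) ?_ t
    have := step_spec S hr hp (by omega)
    omega
  intro x hx
  have := h hx
  rw [Subgroup.mem_comap] at this
  rwa [show ((MulAut.conj (ss S)).toMonoidHom x) = (ss S) * x * (ss S)⁻¹ from rfl, ss_inv S] at this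

theorem lead_spec {k : ℕ} (hk : k + 1 < D.nroots) (hp : half D ≤ k) :
    ∃ (j m : ℕ) (c : ℤ), j < D.rank ∧ D.simple j ≠ k ∧ k < m ∧ (c : F) = 1 ∧
      D.commTerms k (D.simple j) = [(m, c, 1, 1)] ∧
      ∀ s, k < s → s < D.nroots → s ≠ D.simple j →
        ∀ d ∈ D.commTerms s (D.simple j), m < d.1 := by
  have h := S.lead
  simp only [chkLead, allBelow_iff] at h
  have h' := h k (by omega)
  rw [nble_iff.2 hp, cond_true, Bool.or_eq_true, nbeq_iff, List.any_eq_true] at h'
  rcases h' with h' | ⟨j, hj, h'⟩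
  · omega
  rw [List.mem_range] at hj
  rw [leadOK, Bool.and_eq_true, Bool.not_eq_true', nbeq_false_iff] at h'
  obtain ⟨hne, h'⟩ := h'
  rcases hL : C.cTerms D k (D.simple j) with _ | ⟨⟨m, c, a, b⟩, _ | _⟩
  · rw [hL] at h'; exact Bool.noConfusion h'
  swap
  · rw [hL] at h'; exact Bool.noConfusion h'
  rw [hL] at h'
  simp only [Bool.and_eq_true, decide_eq_true_eq, nbeq_iff, allBelow_iff] at h'
  obtain ⟨⟨⟨⟨hc, rfl⟩, rfl⟩, hm⟩, hall⟩ := h'
  refine ⟨j, m, c, hj, hne, by simpa using hm, ?_, by rw [commTerms_eq S.checks, hL], ?_⟩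
  · obtain ⟨q, rfl⟩ : ∃ q, c = 2 * q + 1 := ⟨c / 2, by omega⟩
    have h2 : ((2 : ℤ) : F) = 0 := by
      rw [show (2 : ℤ) = 1 + 1 from rfl, Int.cast_add, Int.cast_one]
      nth_rewrite 2 [← neg_one_eq S]
      exact add_neg_cancel 1
    rw [Int.cast_add, Int.cast_mul, h2, zero_mul, zero_add, Int.cast_one]
  · intro s hks hs hsa d hd
    have := hall s hs
    rw [show Nat.blt k s = true by simpa using hks, nbeq_false_iff.2 hsa] at this
    simp only [Bool.not_false, Bool.and_self, cond_true, List.all_eq_true] at this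
    rw [commTerms_eq S.checks] at hd
    simpa using this d hd

/-- A subgroup normalised by `U` and meeting it nontrivially contains the last root element. -/
theorem top_mem {M : Subgroup (GL D.Idx F)}
    (hM : ∀ u ∈ D.posUnipotent F, ∀ x ∈ M, u * x * u⁻¹ ∈ M) :
    ∀ (d k : ℕ), D.nroots - k = d → half D ≤ k → ∀ y ∈ M,
      y ∈ Subgroup.closure (rootsFrom S.facts k (F := F)) → y ≠ 1 → xG S.facts (D.nroots - 1) (1 : F) ∈ M := by
  intro d
  induction d using Nat.strong_induction_on with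
  | _ d ih =>
    intro k hd hk y hyM hy hy1
    by_cases hkn : k < D.nroots
    swap
    · obtain ⟨t, rfl⟩ := exists_prodFrom S.facts _ k hd hk y hy
      exact absurd (prodFrom_top S.facts (by omega) t) hy1
    obtain ⟨t, rfl⟩ := exists_prodFrom S.facts _ k hd hk y hy
    have hrest : prodFrom S.facts (k + 1) t ∈ Subgroup.closure (rootsFrom S.facts (k + 1) (F := F)) :=
      prodFrom_mem S.facts _ _
    rw [prodFrom_succ S.facts hkn] at hyM hy hy1
    have ht : t k = 0 ∨ t k = 1 := by
      exact S.two _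
    rcases ht with ht | ht
    · rw [ht, xG_zero, one_mul] at hyM hy hy1
      exact ih _ (by omega) (k + 1) rfl (by omega) _ hyM hrest hy1
    rw [ht] at hyM hy hy1
    by_cases hlast : k + 1 = D.nroots
    · rw [prodFrom_top S.facts (by omega), mul_one] at hyM
      rwa [show D.nroots - 1 = k by omega]
    obtain ⟨j, m, c, hj, hja, hkm, hc, hcomm, hall⟩ := lead_spec S (by omega) hk
    have ha := S.facts.simple_lt j hj
    have hap := S.facts.simple_pos j hj
    set a := D.simple j with hadef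
    have hm : m < D.nroots := S.facts.comm_lt k a hkn ha (m, c, 1, 1) (by rw [hcomm]; simp)
    have hxU : xG S.facts a (1 : F) ∈ D.posUnipotent F := mem_posUnipotent_of S.facts ha hap 1
    have hkU : xG S.facts k (1 : F) ∈ D.posUnipotent F := mem_posUnipotent_of S.facts hkn hk 1
    have hN := posUnipotent_le_normalizer_rootsFrom S.facts (m + 1) (by omega) (F := F)
    have hconj : ∀ z ∈ Subgroup.closure (rootsFrom S.facts (k + 1) (F := F)),
        xG S.facts a 1 * z * (xG S.facts a 1)⁻¹ * z⁻¹ ∈ Subgroup.closure (rootsFrom S.facts (m + 1) (F := F)) := by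
      intro z hz
      suffices hh : z ∈ D.posUnipotent F ∧ xG S.facts a 1 * z * (xG S.facts a 1)⁻¹ * z⁻¹ ∈
          Subgroup.closure (rootsFrom S.facts (m + 1) (F := F)) from hh.2
      refine Subgroup.closure_induction ?_ ?_ ?_ ?_ hz
      · rintro x ⟨s, v, hs, hsn, rfl⟩
        refine ⟨mem_posUnipotent_of S.facts hsn (by omega) v, ?_⟩
        by_cases hsa : s = a
        · rw [hsa, xG_inv, xG_inv, xG_mul, xG_mul, xG_mul,
            show (1 : F) + v + -1 + -v = 0 by ring, xG_zero]
          exact one_mem _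
        have hne : a ≠ D.neg s := by
          have := (neg_lt_half_iff S.facts hsn).2 (by omega); omega
        rw [xG_comm S.facts hsn ha (Ne.symm hsa) hne v 1]
        have hw : wordG S.facts (D.commWord F s a v 1) ∈
            Subgroup.closure (rootsFrom S.facts (m + 1) (F := F)) := by
          refine Chev.wordG_mem S.facts fun p hpw => ?_
          obtain ⟨e, he, rfl⟩ := List.mem_map.1 hpw
          exact Subgroup.subset_closure ⟨e.1, _, hall s (by omega) hsn hsa e he,
            S.facts.comm_lt s a hsn ha e he, rfl⟩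
        have hg : xG S.facts s v * xG S.facts a 1 ∈ D.posUnipotent F :=
          mul_mem (mem_posUnipotent_of S.facts hsn (by omega) v) hxU
        have := (Subgroup.mem_normalizer_iff.1 (hN hg) _).1 hw
        rwa [show xG S.facts s v * xG S.facts a 1 * wordG S.facts (D.commWord F s a v 1) *
          (xG S.facts a 1)⁻¹ * (xG S.facts s v)⁻¹ =
          xG S.facts s v * xG S.facts a 1 * wordG S.facts (D.commWord F s a v 1) *
          (xG S.facts s v * xG S.facts a 1)⁻¹ by group]
      · exact ⟨one_mem _, by simp⟩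
      · rintro x y _ _ ⟨hx1, hx2⟩ ⟨hy1, hy2⟩
        refine ⟨mul_mem hx1 hy1, ?_⟩
        rw [show xG S.facts a 1 * (x * y) * (xG S.facts a 1)⁻¹ * (x * y)⁻¹ =
          (xG S.facts a 1 * x * (xG S.facts a 1)⁻¹ * x⁻¹) *
            (x * (xG S.facts a 1 * y * (xG S.facts a 1)⁻¹ * y⁻¹) * x⁻¹) by group]
        exact mul_mem hx2 ((Subgroup.mem_normalizer_iff.1 (hN hx1) _).1 hy2)
      · rintro x _ ⟨hx1, hx2⟩
        refine ⟨inv_mem hx1, ?_⟩
        have := (Subgroup.mem_normalizer_iff.1 (hN (inv_mem hx1)) _).1 (inv_mem hx2)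
        convert this using 1
        group
    set y' := prodFrom S.facts (k + 1) t with hy'
    set z := xG S.facts a 1 * (xG S.facts k 1 * y') * (xG S.facts a 1)⁻¹ * (xG S.facts k 1 * y')⁻¹ with hzdef
    have hzM : z ∈ M := mul_mem (hM _ hxU _ hyM) (inv_mem hyM)
    have hne : a ≠ D.neg k := by
      have := (neg_lt_half_iff S.facts hkn).2 hk; omega
    have hw : wordG S.facts (D.commWord F k a (1 : F) 1) = xG S.facts m (1 : F) := by
      simp [ChevalleyDatum.commWord, hcomm, wordG, hc, neg_one_eq S]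
    have hmp : half D ≤ m := by omega
    set w := xG S.facts k (1 : F) * xG S.facts a 1 with hwdef
    have hwU : w ∈ D.posUnipotent F := mul_mem hkU hxU
    have hz : ∃ e ∈ Subgroup.closure (rootsFrom S.facts (m + 1) (F := F)),
        z = e * xG S.facts m 1 := by
      refine ⟨(w * xG S.facts m 1 * w⁻¹ * (xG S.facts m 1)⁻¹) * (xG S.facts m 1 * (xG S.facts k 1 *
        (xG S.facts a 1 * y' * (xG S.facts a 1)⁻¹ * y'⁻¹) * (xG S.facts k 1)⁻¹) * (xG S.facts m 1)⁻¹),
        mul_mem (conj_lead S.facts hm hmp hwU 1) ((Subgroup.mem_normalizer_iff.1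
          (hN (mem_posUnipotent_of S.facts hm hmp 1)) _).1
          ((Subgroup.mem_normalizer_iff.1 (hN hkU) _).1 (hconj y' hrest))), ?_⟩
      have e1 : xG S.facts a (1 : F) * xG S.facts k 1 = xG S.facts k 1 * xG S.facts a 1 * xG S.facts m 1 := by
        rw [← hw]; exact xG_comm S.facts hkn ha hja hne 1 1
      have e2 : xG S.facts a (1 : F) * xG S.facts k 1 * (xG S.facts a 1)⁻¹ * (xG S.facts k 1)⁻¹ =
          w * xG S.facts m 1 * w⁻¹ := by
        rw [hwdef, e1]; group
      calc z = (xG S.facts a 1 * xG S.facts k 1 * (xG S.facts a 1)⁻¹ * (xG S.facts k 1)⁻¹) *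
            (xG S.facts k 1 * (xG S.facts a 1 * y' * (xG S.facts a 1)⁻¹ * y'⁻¹) * (xG S.facts k 1)⁻¹) := by
              rw [hzdef]; group
        _ = _ := by rw [e2]; group
    obtain ⟨e, he, hze⟩ := hz
    have hzmem : z ∈ Subgroup.closure (rootsFrom S.facts m (F := F)) := by
      rw [hze]
      have hle : rootsFrom S.facts (m + 1) (F := F) ⊆ rootsFrom S.facts m := by
        rintro g ⟨r, v, h1, h2, h3⟩
        exact ⟨r, v, by omega, h2, h3⟩
      exact mul_mem (Subgroup.closure_mono hle he)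
        (Subgroup.subset_closure ⟨m, 1, le_rfl, hm, rfl⟩)
    have hz1 : z ≠ 1 := by
      intro h1
      refine one_ne_zero (lead_zero S.facts hm hmp (a := (1 : F)) ?_)
      rw [show xG S.facts m (1 : F) = e⁻¹ from eq_inv_of_mul_eq_one_right (hze ▸ h1)]
      exact inv_mem he
    exact ih _ (by omega) m rfl hmp z hzM hzmem hz1

omit S in
theorem unipotentRadical_le_posU : D.unipotentRadical F J3 ≤ D.posUnipotent F := by
  refine (Subgroup.closure_le _).2 ?_
  rintro y ⟨r, t, hr, -, e⟩
  exact Subgroup.subset_closure ⟨r, t, hr, e⟩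

/-- A nontrivial subgroup normalised by the parabolic contains the last root element. -/
theorem top_mem_of_normal {N : Subgroup (GL D.Idx F)} (hN : N ≤ (PP D F))
    (hn : ∀ p ∈ (PP D F), ∀ x ∈ N, p * x * p⁻¹ ∈ N) (hne : N ≠ ⊥) : xG S.facts (D.nroots - 1) (1 : F) ∈ N := by
  obtain ⟨y, hy, hy1⟩ : ∃ y ∈ N ⊓ D.posUnipotent F, y ≠ 1 := by
    by_contra hcon
    push Not at hcon
    obtain ⟨n, hnN, hn1⟩ : ∃ n ∈ N, n ≠ 1 := by
      by_contra h
      push Not at h
      exact hne ((Subgroup.eq_bot_iff_forall _).2 h)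
    refine hn1 (hcon n ⟨hnN, unipotentRadical_le_posU ?_⟩)
    refine centralizer_radical_le S.checks S.facts J3 ⟨3, S.node, fun h => h rfl⟩ S.linked
      (PP_le_group S (hN hnN)) fun u hu => ?_
    have hUU : D.unipotentRadical F J3 ≤ D.posUnipotent F := unipotentRadical_le_posU
    have hUN : n * u * n⁻¹ ∈ D.unipotentRadical F J3 :=
      (Subgroup.mem_normalizer_iff.1 (parabolic_le_normalizer S.facts J3 (hN hnN)) u).1 hu
    refine mul_inv_eq_one.1 (hcon (n * u * n⁻¹ * u⁻¹) (Subgroup.mem_inf.2 ⟨?_, ?_⟩))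
    · rw [show n * u * n⁻¹ * u⁻¹ = n * (u * n⁻¹ * u⁻¹) by group]
      exact mul_mem hnN (hn u (posU_le S (hUU hu)) _ (inv_mem hnN))
    · have h1 : D.unipotentRadical F J3 ≤ D.posUnipotent F := unipotentRadical_le_posU
      exact mul_mem (h1 hUN) (inv_mem (h1 hu))
  exact top_mem S (M := N) (fun u hu x hx => hn u (posU_le S hu) x hx) _ (half D) rfl le_rfl y
    hy.1 ((posUnipotent_eq S.facts (F := F)).le hy.2) hy1

theorem neg_not_mem : xG S.facts (D.neg (D.simple 3)) (1 : F) ∉ (PP D F) := by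
  intro hx
  have hp := S.facts.simple_lt 3 S.node
  have hpos := S.facts.simple_pos 3 S.node
  have hnS : (nS S.facts 3 : GL D.Idx F) ∈ (PP D F) := by
    have h1 := mem_posUnipotent_of S.facts hp hpos (1 : F)
    show nG S.facts (D.simple 3) 1 ∈ (PP D F)
    rw [nG, show (-(1 : F)⁻¹) = 1 by rw [inv_one, neg_one_eq S]]
    exact mul_mem (mul_mem (posU_le S h1) hx) (posU_le S h1)
  have hxr : xG S.facts (D.simple 3) (1 : F) ∈ D.unipotentRadical F J3 :=
    Subgroup.subset_closure ⟨D.simple 3, 1, (S.facts.posRoot_iff _ hp).2 hpos, fun h => by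
      have h0 : coef D (D.simple 3) 3 = 0 := h.2 3 S.node (fun h => h rfl)
      rw [S.facts.coef_simple 3 S.node 3 S.node, if_pos rfl] at h0
      exact one_ne_zero h0, rfl⟩
  have h2 := (Subgroup.mem_normalizer_iff.1 (parabolic_le_normalizer S.facts J3 hnS) _).1 hxr
  rw [nS_conj S S.node hp, S.facts.refl_simple 3 S.node] at h2
  have h3 := borel_inf_upper S.facts (Subgroup.mem_sup_left (unipotentRadical_le_posU h2))
    (negUnipotent_le_upperGroup S.facts (mem_negUnipotent_of S.facts (neg_lt S.facts hp)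
      ((neg_lt_half_iff S.facts hp).2 hpos) _))
  exact one_ne_zero ((xG_eq_one_iff S.facts (neg_lt S.facts hp)).1 h3)

end Cfsg.Agent.IterCores
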