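import Cfsg.Agent.IterCores.E8
import Cfsg.Agent.Chev.TopRoot

/-!
The iterated cores of a maximal parabolic subgroup of `E₈(2)` and a conjugate reach exactly six steps.
-/

set_option autoImplicit false
set_option maxRecDepth 100000

namespace Cfsg.Agent.IterCores

open Cfsg.Lie Cfsg.Agent.Chev
open scoped MatrixGroups

universe u

variable {D : ChevalleyDatum} {C : Cert} {F : Type u} [Field F] (S : Setting D C F)
include S

/-- The parabolic subgroup inside the group. -/
noncomputable abbrev P1 : Subgroup ↥(D.group F) := (PP D F).subgroupOf (D.group F)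

/-- The reflection inside the group. -/
def s1 : ↥(D.group F) := ⟨ss S, nG_mem_group S.facts _ _⟩

theorem s1_sq : s1 S * s1 S = 1 := Subtype.ext (ss_sq S)

/-- A root element inside the group. -/
def x1 (r : ℕ) : ↥(D.group F) := ⟨xG S.facts r (1 : F), xG_mem_group S.facts _ _⟩

theorem s1_conj {r : ℕ} (hr : r < D.nroots) :
    s1 S * x1 S r * s1 S = x1 S (D.reflectRoot 3 r) := by
  refine Subtype.ext ?_
  show ss S * xG S.facts r 1 * ss S = xG S.facts (D.reflectRoot 3 r) 1
  have h := nS_conj S S.node hr (1 : F)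
  rwa [show (nS S.facts 3 : GL D.Idx F)⁻¹ = ss S from ss_inv S] at h

theorem x1_neg_not_mem : x1 S (D.neg (D.simple 3)) ∉ P1 (D := D) (F := F) := fun h =>
  neg_not_mem S (Subgroup.mem_subgroupOf.1 h)

theorem simple_mem : x1 S (D.simple 3) ∈ P1 (D := D) (F := F) :=
  Subgroup.mem_subgroupOf.2 (posU_le S
    (mem_posUnipotent_of S.facts (S.facts.simple_lt 3 S.node) (S.facts.simple_pos 3 S.node) 1))

theorem isCoatom_P1 : IsCoatom (P1 (D := D) (F := F)) := by
  refine ⟨fun e => x1_neg_not_mem S (e ▸ Subgroup.mem_top _), fun M hM => ?_⟩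
  set BP := bnPair S.facts (F := F)
  have hB : BP.B ≤ M := fun x hx => hM.le (Subgroup.mem_subgroupOf.2
    (borel_le_parabolic _ (Subgroup.mem_subgroupOf.1 hx)))
  by_cases h3 : nGrp S.facts ⟨3, S.node⟩ (F := F) ∈ M
  · rw [eq_top_iff, ← BN.parabolic_S (P := BP)]
    refine sup_le hB ((Subgroup.closure_le _).2 ?_)
    rintro g ⟨i, rfl⟩
    by_cases hi : (i : ℕ) = 3
    · rw [show i = ⟨3, S.node⟩ from Fin.ext hi]
      exact h3
    · exact hM.le (Subgroup.mem_subgroupOf.2 (nS_mem_parabolic S.facts _ (mem_idxSet.2 hi)))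
  · refine absurd ?_ hM.not_ge
    rw [BN.eq_parabolic hB]
    refine sup_le (fun x hx => Subgroup.mem_subgroupOf.2
      (borel_le_parabolic _ (Subgroup.mem_subgroupOf.1 hx))) ((Subgroup.closure_le _).2 ?_)
    rintro g ⟨⟨i, rfl⟩, hg⟩
    refine Subgroup.mem_subgroupOf.2 (nS_mem_parabolic S.facts _ (mem_idxSet.2 fun hi => h3 ?_))
    rw [show (⟨3, S.node⟩ : Fin D.rank) = i from Fin.ext hi.symm]
    exact hg

/-- The sequences of iterated cores in the group. -/
noncomputable abbrev AB (n : ℕ) : Subgroup ↥(D.group F) × Subgroup ↥(D.group F) :=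
  seq (P1 (D := D) (F := F)) (s1 S) n

theorem path_mem : ∀ (w : List ℕ) (r : ℕ), r < D.nroots → (∀ j ∈ w, j < D.rank) →
    x1 S r ∈ (AB S (w.countP fun i => decide (i = 3))).1 →
      x1 S (w.foldl (fun r i => D.reflectRoot i r) r) ∈ P1 (D := D) (F := F) := by
  intro w
  induction w with
  | nil => exact fun r _ _ h => h
  | cons j w ih =>
    intro r hr hw h
    obtain ⟨hj, hw⟩ := List.forall_mem_cons.1 hw
    rw [List.foldl_cons]
    refine ih _ (S.facts.refl_lt j hj r hr) hw ?_
    by_cases hj3 : j = 3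
    · subst hj3
      rw [List.countP_cons] at h
      simp only [decide_true, if_true] at h
      rw [← s1_conj S hr]
      exact seq_succ_cross (s1_sq S) h
    · rw [List.countP_cons] at h
      simp only [hj3, decide_false, Bool.false_eq_true, if_false, add_zero] at h
      have hnP : (⟨nS S.facts j, nG_mem_group S.facts _ _⟩ : ↥(D.group F)) ∈
          P1 (D := D) (F := F) :=
        Subgroup.mem_subgroupOf.2
          (nS_mem_parabolic S.facts _ (i := ⟨j, hj⟩) (mem_idxSet.2 hj3))
      have := seq_conj _ _ _ _ hnP _ h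
      convert this using 1
      exact Subtype.ext (nS_conj S hj hr (1 : F)).symm

theorem top_five (hcoef : coef D (D.nroots - 1) 3 = 6) : x1 S (D.nroots - 1) ∈ (AB S 5).1 := by
  let U : ℕ → Subgroup ↥(D.group F) := fun k => (lv S (max k 1)).subgroupOf (D.group F)
  have h : U 6 ≤ (AB S 5).1 := by
    refine le_seq (s1_sq S) U (fun x hx => ?_) (fun k p hp x hx => ?_) (fun k x hx => ?_)
      (fun k hk x hx => ?_) 5
    · exact Subgroup.mem_subgroupOf.2 (posU_le S (lv_le_posU S _ (Subgroup.mem_subgroupOf.1 hx)))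
    · exact Subgroup.mem_subgroupOf.2 (PP_lv S (le_max_right _ _) _
        (Subgroup.mem_subgroupOf.1 hp) _ (Subgroup.mem_subgroupOf.1 hx))
    · refine Subgroup.mem_subgroupOf.2 ?_
      have hx' := Subgroup.mem_subgroupOf.1 hx
      rcases Nat.eq_zero_or_pos k with rfl | hk
      · simpa using hx'
      · rw [max_eq_left (by omega : 1 ≤ k)]
        rw [max_eq_left (by omega : 1 ≤ k + 1)] at hx'
        exact lv_mono S k hx'
    · refine Subgroup.mem_subgroupOf.2 ?_
      rw [max_eq_left hk]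
      have hx' := Subgroup.mem_subgroupOf.1 hx
      rw [max_eq_left (by omega : 1 ≤ k + 1)] at hx'
      exact lv_step S hk _ hx'
  exact h (Subgroup.mem_subgroupOf.2
    (mem_lv S (top_lt S.facts) (half_le_top S.facts) (by rw [hcoef]; norm_num) 1))

/-- The iterated cores reach exactly six steps. -/
theorem six_steps (hs : IsSimpleGroup ↥(D.group F)) (hcoef : coef D (D.nroots - 1) 3 = 6)
    (w : List ℕ) (hlt : ∀ j ∈ w, j < D.rank) (hcount : (w.countP fun i => decide (i = 3)) = 6)
    (hend : w.foldl (fun r i => D.reflectRoot i r) (D.nroots - 1) = D.neg (D.simple 3)) :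
    ∃ (M₁ M₂ : Subgroup ↥(D.group F)) (g : ↥(D.group F)) (A B : ℕ → Subgroup ↥(D.group F)),
      IsCoatom M₁ ∧ M₂ = M₁.map (MulAut.conj g).toMonoidHom ∧ M₁ ≠ M₂ ∧ M₁.normalCore = ⊥ ∧
      A 0 = M₁ ∧ B 0 = M₂ ∧
      (∀ i, A (i + 1) = ((A i ⊓ B i).subgroupOf M₁).normalCore.map M₁.subtype) ∧
      (∀ i, B (i + 1) = ((A i ⊓ B i).subgroupOf M₂).normalCore.map M₂.subtype) ∧
      A 6 = ⊥ ∧ A 5 ≠ ⊥ := by
  refine ⟨P1 (D := D) (F := F), _, s1 S, fun n => (AB S n).1, fun n => (AB S n).2,
    isCoatom_P1 S, rfl, ?_, ?_, rfl, rfl, fun i => rfl, fun i => rfl, ?_, ?_⟩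
  · intro e
    refine x1_neg_not_mem S ?_
    rw [e, mem_map_conj (s1_sq S), s1_conj S (neg_lt S.facts (S.facts.simple_lt 3 S.node)),
      S.facts.refl_neg 3 S.node _ (S.facts.simple_lt 3 S.node), S.facts.refl_simple 3 S.node,
      neg_neg_root S.facts (S.facts.simple_lt 3 S.node)]
    exact simple_mem S
  · rcases (Subgroup.normalCore_normal (P1 (D := D) (F := F))).eq_bot_or_eq_top with h | h
    · exact h
    · exact absurd (Subgroup.normalCore_le _ (h.symm ▸ Subgroup.mem_top (x1 S (D.neg (D.simple 3)))))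
        (x1_neg_not_mem S)
  · by_contra hne
    have hN : ((AB S 6).1.map (D.group F).subtype) ≠ ⊥ := fun e =>
      hne ((Subgroup.map_eq_bot_iff_of_injective _ Subtype.val_injective).1 e)
    have hNP : (AB S 6).1.map (D.group F).subtype ≤ PP D F := by
      rintro _ ⟨x, hx, rfl⟩
      exact Subgroup.mem_subgroupOf.1 (seq_le _ _ 6 hx)
    have hconj : ∀ p ∈ PP D F, ∀ x ∈ (AB S 6).1.map (D.group F).subtype,
        p * x * p⁻¹ ∈ (AB S 6).1.map (D.group F).subtype := by
      rintro p hp _ ⟨x, hx, rfl⟩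
      exact ⟨_, seq_conj _ _ 6 ⟨p, PP_le_group S hp⟩ (Subgroup.mem_subgroupOf.2 hp) x hx, rfl⟩
    obtain ⟨x, hx, e⟩ := top_mem_of_normal S hNP hconj hN
    have hx' : x1 S (D.nroots - 1) ∈ (AB S 6).1 := by
      have hxe : x = x1 S (D.nroots - 1) := Subtype.ext e
      exact hxe ▸ hx
    rw [← hcount] at hx'
    have := path_mem S w _ (top_lt S.facts) hlt hx'
    rw [hend] at this
    exact x1_neg_not_mem S this
  · intro e
    have h : x1 S (D.nroots - 1) ∈ (⊥ : Subgroup ↥(D.group F)) := e ▸ top_five S hcoef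
    exact one_ne_zero ((xG_eq_one_iff S.facts (top_lt S.facts)).1
      (congrArg Subtype.val (Subgroup.mem_bot.1 h)))

omit S in
theorem setting_e8 : Setting chevE8 e8Cert (ZMod 2) where
  facts := facts_chevE8
  checks := e8_checks
  two := by decide +kernel
  node := by decide +kernel
  mono := e8_mono
  step := e8_step
  lead := e8_lead
  linked := e8_linked

end Cfsg.Agent.IterCores
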