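import Mathlib

/-!
Iterated cores of a maximal subgroup and a conjugate of it by an element of order two.
-/

set_option autoImplicit false

namespace Cfsg.Agent.IterCores

variable {G : Type*} [Group G]

/-- The core of `Y` in `P`, as a subgroup of the ambient group. -/
def coreIn (P Y : Subgroup G) : Subgroup G := (Y.subgroupOf P).normalCore.map P.subtype

theorem mem_coreIn {P Y : Subgroup G} {x : G} :
    x ∈ coreIn P Y ↔ x ∈ P ∧ ∀ p ∈ P, p * x * p⁻¹ ∈ Y := by
  constructor
  · rintro ⟨⟨a, ha⟩, h, rfl⟩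
    exact ⟨ha, fun p hp => h ⟨p, hp⟩⟩
  · rintro ⟨hx, h⟩
    exact ⟨⟨x, hx⟩, fun p => h p p.2, rfl⟩

theorem coreIn_le (P Y : Subgroup G) : coreIn P Y ≤ Y := fun x hx => by
  simpa using (mem_coreIn.1 hx).2 1 (one_mem _)

theorem conj_mem_coreIn {P Y : Subgroup G} {x p : G} (hx : x ∈ coreIn P Y) (hp : p ∈ P) :
    p * x * p⁻¹ ∈ coreIn P Y := by
  rw [mem_coreIn] at hx ⊢
  refine ⟨mul_mem (mul_mem hp hx.1) (inv_mem hp), fun q hq => ?_⟩
  have := hx.2 (q * p) (mul_mem hq hp)
  rwa [show q * (p * x * p⁻¹) * q⁻¹ = q * p * x * (q * p)⁻¹ by group]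

theorem le_coreIn {P Y H : Subgroup G} (hHP : H ≤ P) (hn : ∀ p ∈ P, ∀ x ∈ H, p * x * p⁻¹ ∈ H)
    (hHY : H ≤ Y) : H ≤ coreIn P Y :=
  fun x hx => mem_coreIn.2 ⟨hHP hx, fun p hp => hHY (hn p hp x hx)⟩

variable (P : Subgroup G) (s : G)

/-- The two sequences of iterated cores. -/
def seq : ℕ → Subgroup G × Subgroup G
  | 0 => (P, P.map (MulAut.conj s).toMonoidHom)
  | n + 1 =>
    (coreIn P ((seq n).1 ⊓ (seq n).2),
      coreIn (P.map (MulAut.conj s).toMonoidHom) ((seq n).1 ⊓ (seq n).2))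

theorem seq_le : ∀ n, (seq P s n).1 ≤ P
  | 0 => le_rfl
  | _ + 1 => fun _ hx => (mem_coreIn.1 hx).1

theorem seq_conj : ∀ n, ∀ p ∈ P, ∀ x ∈ (seq P s n).1, p * x * p⁻¹ ∈ (seq P s n).1
  | 0 => fun _ hp _ hx => mul_mem (mul_mem hp hx) (inv_mem hp)
  | _ + 1 => fun _ hp _ hx => conj_mem_coreIn hx hp

variable {P s} (hs : s * s = 1)
include hs

theorem mem_map_conj {H : Subgroup G} {x : G} :
    x ∈ H.map (MulAut.conj s).toMonoidHom ↔ s * x * s ∈ H := by
  have e : s⁻¹ = s := inv_eq_of_mul_eq_one_right hs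
  constructor
  · rintro ⟨y, hy, rfl⟩
    show s * (s * y * s⁻¹) * s ∈ H
    rw [e, show s * (s * y * s) * s = (s * s) * y * (s * s) by group, hs, one_mul, mul_one]
    exact hy
  · intro h
    refine ⟨_, h, ?_⟩
    show s * (s * x * s) * s⁻¹ = x
    rw [e, show s * (s * x * s) * s = (s * s) * x * (s * s) by group, hs, one_mul, mul_one]

theorem mem_seq_snd : ∀ (n : ℕ) (x : G), x ∈ (seq P s n).2 ↔ s * x * s ∈ (seq P s n).1 := by
  intro n
  induction n with
  | zero => exact fun x => mem_map_conj hs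
  | succ n ih =>
    have hB : ∀ y, s * y * s ∈ (seq P s n).1 ⊓ (seq P s n).2 ↔
        y ∈ (seq P s n).1 ⊓ (seq P s n).2 := by
      intro y
      simp only [Subgroup.mem_inf, ih]
      rw [show s * (s * y * s) * s = (s * s) * y * (s * s) by group, hs, one_mul, mul_one]
      exact and_comm
    intro x
    show x ∈ coreIn _ _ ↔ s * x * s ∈ coreIn _ _
    rw [mem_coreIn, mem_coreIn, mem_map_conj hs]
    have e : s⁻¹ = s := inv_eq_of_mul_eq_one_right hs
    refine and_congr_right fun _ => ⟨fun h p hp => ?_, fun h p hp => ?_⟩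
    · rw [← hB]
      have := h (s * p * s) (by
        rw [mem_map_conj hs, show s * (s * p * s) * s = (s * s) * p * (s * s) by group, hs,
          one_mul, mul_one]
        exact hp)
      convert this using 1
      simp only [mul_inv_rev, e]
      group
    · rw [← hB]
      have := h (s * p * s) ((mem_map_conj hs).1 hp)
      convert this using 1
      simp only [mul_inv_rev, e]
      rw [show s * p * s * (s * x * s) * (s * (p⁻¹ * s)) =
        s * p * (s * s) * x * (s * s) * p⁻¹ * s by group, hs, mul_one]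
      group

/-- Lower bound for the iterated cores. -/
theorem le_seq (U : ℕ → Subgroup G) (h1 : U 1 ≤ P)
    (hn : ∀ k, ∀ p ∈ P, ∀ x ∈ U k, p * x * p⁻¹ ∈ U k) (hmono : ∀ k, U (k + 1) ≤ U k)
    (hstep : ∀ k, 1 ≤ k → ∀ x ∈ U (k + 1), s * x * s ∈ U k) :
    ∀ n, U (n + 1) ≤ (seq P s n).1 := by
  have hUP : ∀ k, 1 ≤ k → U k ≤ P := by
    intro k hk
    induction k, hk using Nat.le_induction with
    | base => exact h1
    | succ k _ ih => exact (hmono k).trans ih
  intro n
  induction n with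
  | zero => exact h1
  | succ n ih =>
    refine le_coreIn (hUP _ (by omega)) (hn _) (le_inf ((hmono _).trans ih) fun x hx => ?_)
    exact (mem_seq_snd hs n x).2 (ih (hstep _ (by omega) x hx))

theorem seq_succ_cross {n : ℕ} {x : G} (hx : x ∈ (seq P s (n + 1)).1) :
    s * x * s ∈ (seq P s n).1 :=
  (mem_seq_snd hs n x).1 (coreIn_le _ _ hx).2

end Cfsg.Agent.IterCores
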